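import Groth.Prelude.Def_SGA1
import Mathlib.AlgebraicGeometry.Morphisms.Finite
import Mathlib.AlgebraicGeometry.Morphisms.Proper
import Mathlib.AlgebraicGeometry.Limits
import Mathlib.AlgebraicGeometry.ResidueField
import Mathlib.FieldTheory.IsAlgClosed.AlgebraicClosure

/-!
Finite coproducts of finite morphisms, and group actions transitive on geometric fibres.
-/

universe u

open CategoryTheory CategoryTheory.Limits AlgebraicGeometry

namespace Groth.Agent.Lib.QfhGalois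

theorem exists_geometric_point (W : Scheme.{u}) (w : W) :
    ∃ (K : Type u) (_ : Field K) (_ : IsAlgClosed K) (ω : Spec (CommRingCat.of K) ⟶ W),
      ω (IsLocalRing.closedPoint K) = w :=
  ⟨AlgebraicClosure (W.residueField w), inferInstance, inferInstance,
    Spec.map (CommRingCat.ofHom
      (algebraMap (W.residueField w) (AlgebraicClosure (W.residueField w)))) ≫
      W.fromSpecResidueField w, by
    rw [Scheme.Hom.comp_apply]
    exact Scheme.fromSpecResidueField_apply _ _⟩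

theorem universallyClosed_sigmaDesc {Y : Scheme.{u}} {ι : Type u} [Finite ι] {X : ι → Scheme.{u}}
    (f : ∀ i, X i ⟶ Y) (hf : ∀ i, UniversallyClosed (f i)) : UniversallyClosed (Sigma.desc f) := by
  rw [universallyClosed_eq]
  intro X' Y' i₁ i₂ f' h Z hZ
  let c : ∀ i, pullback i₁ (Sigma.ι X i) ⟶ X' := fun i => pullback.fst _ _
  have hcl : ∀ i, IsClosed ((c i ≫ f') '' (c i ⁻¹' Z)) := fun i => by
    have hpb : IsPullback (c i ≫ f') (pullback.snd i₁ (Sigma.ι X i)) i₂ (f i) := by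
      have := (IsPullback.of_hasPullback i₁ (Sigma.ι X i)).flip.paste_vert h.flip
      rw [Sigma.ι_desc] at this
      exact this.flip
    have := MorphismProperty.of_isPullback (P := @UniversallyClosed) hpb.flip (hf i)
    exact (c i ≫ f').isClosedMap _ (hZ.preimage (c i).continuous)
  have e : f' '' Z = ⋃ i, (c i ≫ f') '' (c i ⁻¹' Z) := by
    ext y
    simp only [Set.mem_iUnion, Set.mem_image, Set.mem_preimage, Scheme.Hom.comp_apply]
    constructor
    · rintro ⟨x, hx, rfl⟩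
      obtain ⟨⟨i, a⟩, ha⟩ := (sigmaMk X).surjective (i₁ x)
      rw [sigmaMk_mk] at ha
      obtain ⟨z, hz, -⟩ := Scheme.Pullback.exists_preimage_pullback x a ha.symm
      exact ⟨i, z, hz.symm ▸ hx, congrArg f' hz⟩
    · rintro ⟨i, z, hz, rfl⟩
      exact ⟨_, hz, rfl⟩
  change IsClosed (f' '' Z)
  rw [e]
  exact isClosed_iUnion_of_finite hcl

theorem isAffineHom_sigmaDesc {Y : Scheme.{u}} {ι : Type u} [Finite ι] {X : ι → Scheme.{u}}
    (f : ∀ i, X i ⟶ Y) (hf : ∀ i, IsAffineHom (f i)) : IsAffineHom (Sigma.desc f) := by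
  refine ⟨fun V hV => ?_⟩
  have e : Sigma.desc f ⁻¹ᵁ V = ⨆ i, Sigma.ι X i ''ᵁ (f i ⁻¹ᵁ V) := by
    ext a
    obtain ⟨⟨i, b⟩, rfl⟩ := (sigmaMk X).surjective a
    rw [sigmaMk_mk]
    simp only [TopologicalSpace.Opens.coe_iSup, Set.mem_iUnion]
    show Sigma.desc f (Sigma.ι X i b) ∈ V ↔ _
    rw [← Scheme.Hom.comp_apply, Sigma.ι_desc]
    refine ⟨fun h => ⟨i, b, h, rfl⟩, fun ⟨j, c, hc, hbc⟩ => ?_⟩
    obtain rfl : j = i := by
      by_contra hne
      exact Set.disjoint_left.mp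
        (TopologicalSpace.Opens.coe_disjoint.mpr (disjoint_opensRange_sigmaι X j i hne))
        ⟨c, rfl⟩ ⟨b, hbc.symm⟩
    rw [← (Sigma.ι X j).isOpenEmbedding.injective hbc]
    exact hc
  rw [e]
  refine IsAffineOpen.iSup_of_disjoint (fun i => ((hf i).isAffine_preimage V hV).image_of_isOpenImmersion _)
    fun i j hij => ?_
  exact (disjoint_opensRange_sigmaι X i j hij).mono (Scheme.Hom.image_le_opensRange _ _)
    (Scheme.Hom.image_le_opensRange _ _)

theorem isFinite_sigmaDesc {Y : Scheme.{u}} {ι : Type u} [Finite ι] {X : ι → Scheme.{u}}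
    (f : ∀ i, X i ⟶ Y) (hf : ∀ i, IsFinite (f i)) : IsFinite (Sigma.desc f) := by
  have := universallyClosed_sigmaDesc f fun i => inferInstance
  have := isAffineHom_sigmaDesc f fun i => inferInstance
  have : LocallyOfFiniteType (Sigma.desc f) :=
    IsZariskiLocalAtSource.sigmaDesc fun i => inferInstance
  rw [IsFinite.iff_isProper_and_isAffineHom]
  exact ⟨{}, inferInstance⟩

theorem univSubmersive_of_surjective {X Y : Scheme.{u}} (f : X ⟶ Y) [UniversallyClosed f]
    [Surjective f] : SGA1.UnivSubmersive f := fun _ _ i₁ i₂ f' h => by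
  have : UniversallyClosed f' := MorphismProperty.of_isPullback h.flip ‹UniversallyClosed f›
  have : Surjective f' := MorphismProperty.of_isPullback h.flip ‹Surjective f›
  exact f'.isClosedMap.isQuotientMap f'.continuous f'.surjective

variable {X S : Scheme.{u}} (q : X ⟶ S) {G : Type u} [Group G] (ρ : G →* Aut X)
  (htrans : ∀ (Ω : Type u) [Field Ω] [IsAlgClosed Ω] (τ₁ τ₂ : Spec (CommRingCat.of Ω) ⟶ X),
    τ₁ ≫ q = τ₂ ≫ q → ∃ g : G, τ₁ ≫ (ρ g).hom = τ₂)

include htrans in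
theorem exists_translate {x₁ x₂ : X} (h : q x₁ = q x₂) : ∃ g : G, (ρ g).hom x₁ = x₂ := by
  obtain ⟨z, h₁, h₂⟩ := Scheme.Pullback.exists_preimage_pullback x₁ x₂ h
  obtain ⟨K, _, _, ω, hω⟩ := exists_geometric_point _ z
  obtain ⟨g, hg⟩ := htrans K (ω ≫ pullback.fst q q) (ω ≫ pullback.snd q q)
    (by rw [Category.assoc, Category.assoc, pullback.condition])
  refine ⟨g, ?_⟩
  have := congrArg (fun m => m (IsLocalRing.closedPoint K)) hg
  simp only [Scheme.Hom.comp_apply, hω, h₁, h₂] at this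
  exact this

include htrans in
theorem isFinite_surjective_cover [IsFinite q] [Finite G] {Y : Scheme.{u}} (r : Y ⟶ X)
    (υ : (∐ fun _ : G => Y) ⟶ pullback (r ≫ q) q)
    (h₁ : ∀ σ : G, Sigma.ι (fun _ : G => Y) σ ≫ υ ≫ pullback.fst (r ≫ q) q = 𝟙 Y)
    (h₂ : ∀ σ : G, Sigma.ι (fun _ : G => Y) σ ≫ υ ≫ pullback.snd (r ≫ q) q = r ≫ (ρ σ).hom) :
    IsFinite υ ∧ Surjective υ := by
  have e : υ ≫ pullback.fst (r ≫ q) q = Sigma.desc (fun _ => 𝟙 Y) :=
    Sigma.hom_ext _ _ fun σ => by rw [h₁ σ, Sigma.ι_desc]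
  have : IsFinite (υ ≫ pullback.fst (r ≫ q) q) :=
    e ▸ isFinite_sigmaDesc (fun _ : G => 𝟙 Y) (fun _ => inferInstance)
  refine ⟨IsFinite.of_comp υ (pullback.fst (r ≫ q) q), ⟨fun z => ?_⟩⟩
  obtain ⟨K, _, _, ω, hω⟩ := exists_geometric_point _ z
  obtain ⟨g, hg⟩ := htrans K (ω ≫ pullback.fst (r ≫ q) q ≫ r) (ω ≫ pullback.snd (r ≫ q) q)
    (by simp only [Category.assoc, pullback.condition])
  refine ⟨(ω ≫ pullback.fst (r ≫ q) q ≫ Sigma.ι (fun _ : G => Y) g) (IsLocalRing.closedPoint K), ?_⟩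
  rw [← Scheme.Hom.comp_apply]
  have : (ω ≫ pullback.fst (r ≫ q) q ≫ Sigma.ι (fun _ : G => Y) g) ≫ υ = ω := by
    refine pullback.hom_ext ?_ ?_
    · simp only [Category.assoc, h₁, Category.comp_id]
    · simp only [Category.assoc, h₂] at hg ⊢
      exact hg
  rw [this]
  exact hω

end Groth.Agent.Lib.QfhGalois
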